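import Cfsg.Agent.H694.CoxBD

/-!
# Team EB, [U4]: parity of the number of double cosets, types `B_n` and `D_n` (helper839)

The orbit of the fundamental weight of the second node consists of the integral vectors of norm 2.
-/

set_option autoImplicit false

namespace Cfsg.Agent.H839.EB

open Cfsg.Agent.ChevalleyStructure.CoxeterGeom Cfsg.Agent.Tits.Core Cfsg.Agent.Tits.OppRes
open Cfsg.Agent.Nodes Cfsg.Agent.H694

universe u

/-! ### Vectors of norm 2 -/

section Vec

variable {m : ℕ}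

/-- the first four coordinates -/
def i0 : Fin (m + 4) := ⟨0, by omega⟩
def i1 : Fin (m + 4) := ⟨1, by omega⟩
def i2 : Fin (m + 4) := ⟨2, by omega⟩
def i3 : Fin (m + 4) := ⟨3, by omega⟩
/-- the others -/
def it (k : Fin m) : Fin (m + 4) := ⟨k + 4, by omega⟩

theorem ip_self_eq (u : Fin (m + 4) → ℤ) : ip u u =
    u i0 * u i0 + (u i1 * u i1 + (u i2 * u i2 + (u i3 * u i3 + ∑ k : Fin m, u (it k) * u (it k)))) := by
  unfold ip
  rw [Fin.sum_univ_succ, Fin.sum_univ_succ, Fin.sum_univ_succ, Fin.sum_univ_succ]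
  rfl

/-- the vector with coordinates `a, b, c, d, 0, …` -/
def mk (q : ℤ × ℤ × ℤ × ℤ) (k : Fin (m + 4)) : ℤ :=
  if (k : ℕ) = 0 then q.1 else if (k : ℕ) = 1 then q.2.1 else if (k : ℕ) = 2 then q.2.2.1
    else if (k : ℕ) = 3 then q.2.2.2 else 0

theorem mk_tail (q : ℤ × ℤ × ℤ × ℤ) (k : Fin m) : mk q (it k) = 0 := by
  unfold mk it
  simp

theorem ip_mk (q : ℤ × ℤ × ℤ × ℤ) : ip (mk (m := m) q) (mk q) =
    q.1 * q.1 + (q.2.1 * q.2.1 + (q.2.2.1 * q.2.2.1 + q.2.2.2 * q.2.2.2)) := by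
  rw [ip_self_eq]
  simp only [mk_tail, mul_zero, Finset.sum_const_zero, add_zero]
  rfl

/-- the six dominant vectors -/
def six : List (ℤ × ℤ × ℤ × ℤ) :=
  [(1, 1, 0, 0), (1, -1, 0, 0), (-1, -1, 0, 0), (1, 0, 1, 0), (0, -1, 1, 0), (0, 0, 1, 1)]

/-- the condition of dominance for the complement of the second node -/
def Dom (u : Fin (m + 4) → ℤ) : Prop :=
  u i1 ≤ u i0 ∧ u i3 ≤ u i2 ∧ 0 ≤ u i3 ∧ ∀ k : Fin m, |u (it k)| ≤ u i3

theorem zero_tail {u : Fin (m + 4) → ℤ} (h2 : ip u u = 2) (h : Dom u) (k : Fin m) : u (it k) = 0 := by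
  by_contra hk
  obtain ⟨-, h3, h4, h5⟩ := h
  have h6 := h5 k
  have h7 : 1 ≤ |u (it k)| := Int.one_le_abs hk
  have h8 : u (it k) * u (it k) ≤ ∑ k : Fin m, u (it k) * u (it k) :=
    Finset.single_le_sum (f := fun k : Fin m => u (it k) * u (it k)) (fun i _ => mul_self_nonneg _) (Finset.mem_univ k)
  have h9 : 1 ≤ u (it k) * u (it k) := by
    rw [← abs_mul_abs_self]
    nlinarith
  rw [ip_self_eq] at h2
  nlinarith [mul_self_nonneg (u i0), mul_self_nonneg (u i1)]

theorem dom_cases {u : Fin (m + 4) → ℤ} (h2 : ip u u = 2) (h : Dom u) :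
    (u i0, u i1, u i2, u i3) ∈ six := by
  have h0 := zero_tail h2 h
  rw [ip_self_eq] at h2
  simp only [h0, mul_zero, Finset.sum_const_zero, add_zero] at h2
  obtain ⟨h1, h3, h4, -⟩ := h
  generalize u i0 = a at *
  generalize u i1 = b at *
  generalize u i2 = c at *
  generalize u i3 = d at *
  have key : ∀ x : ℤ, x * x ≤ 2 → -1 ≤ x ∧ x ≤ 1 := by
    intro x hx
    constructor <;> nlinarith
  obtain ⟨a1, a2⟩ := key a (by nlinarith [mul_self_nonneg b, mul_self_nonneg c, mul_self_nonneg d])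
  obtain ⟨b1, b2⟩ := key b (by nlinarith [mul_self_nonneg a, mul_self_nonneg c, mul_self_nonneg d])
  obtain ⟨c1, c2⟩ := key c (by nlinarith [mul_self_nonneg b, mul_self_nonneg a, mul_self_nonneg d])
  obtain ⟨d1, d2⟩ := key d (by nlinarith [mul_self_nonneg b, mul_self_nonneg c, mul_self_nonneg a])
  interval_cases a <;> interval_cases b <;> interval_cases c <;> interval_cases d <;>
    first
      | omega
      | decide

theorem eq_mk {u : Fin (m + 4) → ℤ} (h2 : ip u u = 2) (h : Dom u) : u = mk (u i0, u i1, u i2, u i3) := by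
  funext k
  unfold mk
  split_ifs with h0 h1 h3 h4
  · exact congrArg u (Fin.ext h0)
  · exact congrArg u (Fin.ext h1)
  · exact congrArg u (Fin.ext h3)
  · exact congrArg u (Fin.ext h4)
  · have hk := k.2
    have e : k = it ⟨k - 4, by omega⟩ := Fin.ext (by
      show (k : ℕ) = (k : ℕ) - 4 + 4
      omega)
    rw [e]
    exact zero_tail h2 h _

theorem dom_mk {q : ℤ × ℤ × ℤ × ℤ} (hq : q ∈ six) : ip (mk (m := m) q) (mk q) = 2 ∧ Dom (mk (m := m) q) := by
  rw [ip_mk]
  unfold Dom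
  simp only [mk_tail, abs_zero]
  have h : ∀ q ∈ six, q.1 * q.1 + (q.2.1 * q.2.1 + (q.2.2.1 * q.2.2.1 + q.2.2.2 * q.2.2.2)) = 2 ∧
      q.2.1 ≤ q.1 ∧ q.2.2.2 ≤ q.2.2.1 ∧ 0 ≤ q.2.2.2 := by decide
  obtain ⟨h1, h2, h3, h4⟩ := h q hq
  exact ⟨h1, h2, h3, h4, fun _ => h4⟩

/-- **There are six dominant vectors.** -/
theorem card_dom (P : {u : Fin (m + 4) → ℤ // ip u u = 2} → Prop) (hP : ∀ u, P u ↔ Dom u.1) :
    Nat.card {u : {u : Fin (m + 4) → ℤ // ip u u = 2} // P u} = 6 := by
  have h1 : Nat.card {q : ℤ × ℤ × ℤ × ℤ // q ∈ six} = 6 := by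
    have h2 : (six : List (ℤ × ℤ × ℤ × ℤ)).Nodup := by decide
    have h3 : six.toFinset.card = 6 := by
      rw [List.toFinset_card_of_nodup h2]
      rfl
    rw [← h3, ← Nat.card_eq_finsetCard]
    exact Nat.card_congr (Equiv.subtypeEquivRight fun n => by simp)
  rw [← h1]
  refine Nat.card_congr ⟨fun u => ⟨(u.1.1 i0, u.1.1 i1, u.1.1 i2, u.1.1 i3), dom_cases u.1.2 ((hP _).1 u.2)⟩,
    fun q => ⟨⟨mk q.1, (dom_mk q.2).1⟩, (hP _).2 (dom_mk q.2).2⟩, fun u => ?_, fun q => rfl⟩
  exact Subtype.ext (Subtype.ext (eq_mk u.1.2 ((hP _).1 u.2)).symm)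

/-- the weights -/
def wg (n : ℕ) (k : Fin n) : ℤ := n - k

theorem ip_wg_le {n : ℕ} (u : Fin n → ℤ) (h : ip u u = 2) : ip (wg n) u ≤ 2 * n := by
  have h1 : ∀ k : Fin n, wg n k * u k ≤ n * (u k * u k) := by
    intro k
    have hk := k.2
    have h2 : 0 ≤ wg n k := by unfold wg; omega
    have h3 : wg n k ≤ n := by unfold wg; omega
    have h4 : u k ≤ u k * u k := by
      rcases le_or_gt (u k) 0 with h5 | h5
      · exact h5.trans (mul_self_nonneg _)
      · nlinarith
    calc wg n k * u k ≤ wg n k * (u k * u k) := mul_le_mul_of_nonneg_left h4 h2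
      _ ≤ n * (u k * u k) := mul_le_mul_of_nonneg_right h3 (mul_self_nonneg _)
  calc ip (wg n) u ≤ ∑ k, (n : ℤ) * (u k * u k) := Finset.sum_le_sum fun k _ => h1 k
    _ = n * ip u u := by rw [ip, Finset.mul_sum]
    _ = 2 * n := by rw [h]; ring

/-- the rank function -/
def rkV (n : ℕ) (u : Fin n → ℤ) : ℕ := (2 * n - ip (wg n) u).toNat

theorem rkV_lt {n : ℕ} {u v : Fin n → ℤ} (hv : ip v v = 2) (h : ip (wg n) u < ip (wg n) v) : rkV n v < rkV n u := by
  have h1 := ip_wg_le v hv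
  unfold rkV
  omega

end Vec

/-! ### Type `B` -/

section TB

variable {n : ℕ}

/-- the reflections -/
def reC (i : Fin n) (u : Fin n → ℤ) : Fin n → ℤ := u - TypeC.Cf i u • TypeC.bt i

theorem ip_neg_smul (u v : Fin n → ℤ) (c : ℤ) : ip (u - c • v) (u - c • v) = ip u u - 2 * c * ip u v + c * c * ip v v := by
  rw [ip_sub, ip_comm u, ip_sub, ip_smul, ip_smul, ip_comm v (u - c • v), ip_sub, ip_smul, ip_comm v u]
  ring

theorem ip_reC (i : Fin n) (u : Fin n → ℤ) (h : ip u u = 2) : ip (reC i u) (reC i u) = 2 := by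
  unfold reC
  rw [ip_neg_smul, h, ip_btC u i, ip_btC (TypeC.bt i) i]
  have h1 : TypeC.Cf i (TypeC.bt i) = 2 := by
    have := (TypeC.isCartan n).diag i
    exact this
  rw [h1]
  split_ifs <;> ring

/-- the functional of a vector -/
def phV (n : ℕ) (u : Fin n → ℤ) (j : Fin n) : ℤ := ip u (TypeC.bt j)

theorem phV_reC (i : Fin n) (u : Fin n → ℤ) (j : Fin n) :
    phV n (reC i u) j = phV n u j - TypeC.A n i j * phV n u i := by
  unfold phV reC
  rw [ip_sub, ip_smul, TypeC.A, ip_comm (TypeC.bt i), ip_btC (TypeC.bt j) i, ip_btC u i]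
  ring

theorem phV_nonneg {u : Fin n → ℤ} {j : Fin n} : 0 ≤ phV n u j ↔ 0 ≤ TypeC.Cf j u := by
  unfold phV
  rw [ip_btC]
  split_ifs <;> constructor <;> intro h <;> omega

theorem phV_injective (hn : 1 ≤ n) : Function.Injective (phV n) := by
  intro x y h
  have h1 : ∀ i : Fin n, TypeC.Cf i x = TypeC.Cf i y := by
    intro i
    have h2 := congrFun h i
    unfold phV at h2
    rw [ip_btC, ip_btC] at h2
    split_ifs at h2 <;> omega
  have h2 : ∀ d : ℕ, ∀ k : Fin n, (k : ℕ) + d = n - 1 → x k = y k := by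
    intro d
    induction d with
    | zero =>
      intro k hk
      have h4 := h1 k
      unfold TypeC.Cf at h4
      rw [dif_neg (by omega), dif_neg (by omega)] at h4
      exact h4
    | succ d ih =>
      intro k hk
      have h3 : (k : ℕ) + 1 < n := by omega
      have h4 := h1 k
      unfold TypeC.Cf at h4
      rw [dif_pos h3, dif_pos h3] at h4
      have h5 := ih ⟨k + 1, h3⟩ (by simp only; omega)
      linarith
  funext k
  exact h2 (n - 1 - k) k (by have := k.2; omega)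

theorem ip_wg_btC (i : Fin n) : 0 < ip (wg n) (TypeC.bt i) := by
  rw [ip_btC]
  have := i.2
  unfold TypeC.Cf wg
  split_ifs
  · simp only
    push_cast
    omega
  · omega

/-- the chain of inequalities -/
theorem chainC {u : Fin n → ℤ} {a : ℕ} (h : ∀ i : Fin n, a ≤ (i : ℕ) → 0 ≤ TypeC.Cf i u) :
    ∀ d : ℕ, ∀ k : Fin n, a ≤ (k : ℕ) → (k : ℕ) + d = n - 1 → 0 ≤ u k := by
  intro d
  induction d with
  | zero =>
    intro k hk hd
    have h4 := h k hk
    unfold TypeC.Cf at h4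
    rwa [dif_neg (by omega)] at h4
  | succ d ih =>
    intro k hk hd
    have h3 : (k : ℕ) + 1 < n := by omega
    have h4 := h k hk
    unfold TypeC.Cf at h4
    rw [dif_pos h3] at h4
    have h5 := ih ⟨k + 1, h3⟩ (by simp only; omega) (by simp only; omega)
    linarith

theorem chain_le {u : Fin n → ℤ} {a b : ℕ} (h : ∀ i : ℕ, ∀ hi : i + 1 < n, a ≤ i → i < b → u ⟨i + 1, hi⟩ ≤ u ⟨i, by omega⟩) :
    ∀ d : ℕ, ∀ (i : ℕ) (hi : i + d < n), a ≤ i → i + d ≤ b → u ⟨i + d, hi⟩ ≤ u ⟨i, by omega⟩ := by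
  intro d
  induction d with
  | zero => intro i hi _ _; exact le_rfl
  | succ d ih =>
    intro i hi ha hb
    have h1 := ih i (by omega) ha (by omega)
    have h2 := h (i + d) (by omega) (by omega) (by omega)
    exact h2.trans h1

end TB

theorem dom_iffC {m : ℕ} (u : Fin (m + 4) → ℤ) (h2 : ip u u = 2) :
    (∀ i ∈ {i : Fin (m + 4) | (i : ℕ) ≠ 1}, 0 ≤ phV (m + 4) u i) ↔ Dom u := by
  simp only [Set.mem_ofPred_eq, phV_nonneg]
  constructor
  · intro h
    have hc := chainC (n := m + 4) (u := u) (a := 2) (fun i hi => h i (by omega))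
    have hl := chain_le (n := m + 4) (u := u) (a := 2) (b := m + 3) (fun i hi h1 _ => by
      have h3 := h ⟨i, by omega⟩ (by simp only; omega)
      unfold TypeC.Cf at h3
      rw [dif_pos hi] at h3
      linarith)
    refine ⟨?_, ?_, ?_, ?_⟩
    · have h3 := h i0 (by simp [i0])
      unfold TypeC.Cf at h3
      rw [dif_pos (by simp [i0])] at h3
      have h4 : (⟨((i0 : Fin (m + 4)) : ℕ) + 1, by simp [i0]⟩ : Fin (m + 4)) = i1 := rfl
      rw [h4] at h3
      linarith
    · exact hl 1 2 (by omega) le_rfl (by omega)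
    · exact hc m i3 (by simp [i3]) (by simp [i3]; omega)
    · intro k
      have hk := k.2
      have h3 : 0 ≤ u (it k) := hc (m - 1 - k) (it k) (by simp [it]) (by simp [it]; omega)
      rw [abs_of_nonneg h3]
      have h4 := hl (k + 1) 3 (by omega) (by omega) (by omega)
      have h5 : (⟨3 + ((k : ℕ) + 1), by omega⟩ : Fin (m + 4)) = it k := Fin.ext (by simp [it]; omega)
      rw [h5] at h4
      exact h4
  · intro h i hi
    have hz := zero_tail h2 h
    obtain ⟨h3, h4, h5, -⟩ := h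
    have hi' := i.2
    have hz' : ∀ k : Fin (m + 4), 4 ≤ (k : ℕ) → u k = 0 := by
      intro k hk
      have hk' := k.2
      have e : k = it ⟨k - 4, by omega⟩ := Fin.ext (by
        show (k : ℕ) = (k : ℕ) - 4 + 4
        omega)
      rw [e]
      exact hz _
    obtain ⟨k, hk⟩ := i
    simp only at hi hi'
    unfold TypeC.Cf
    simp only
    obtain _ | _ | _ | _ | k := k
    · rw [dif_pos (by omega)]
      exact sub_nonneg.2 h3
    · exact absurd rfl hi
    · rw [dif_pos (by omega)]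
      exact sub_nonneg.2 h4
    · split_ifs with h6
      · have h7 := hz' ⟨0 + 1 + 1 + 1 + 1, h6⟩ (by simp)
        rw [h7, sub_zero]
        exact h5
      · exact h5
    · split_ifs with h6
      · have h7 := hz' ⟨k + 1 + 1 + 1 + 1 + 1, h6⟩ (by simp only; omega)
        have h8 := hz' ⟨k + 1 + 1 + 1 + 1, hk⟩ (by simp only; omega)
        rw [h7, h8, sub_zero]
      · exact (hz' ⟨k + 1 + 1 + 1 + 1, hk⟩ (by simp only; omega)).ge

/-- the dominant functional -/
def c1 (n : ℕ) (j : Fin n) : ℤ := if (j : ℕ) = 1 then 1 else 0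

theorem c1_eq_zero {n : ℕ} : {i : Fin n | c1 n i = 0} = {i : Fin n | (i : ℕ) ≠ 1} := by
  ext j
  simp only [Set.mem_ofPred_eq, c1]
  split_ifs <;> simp_all

/-- the highest vector -/
def y0 (m : ℕ) : {u : Fin (m + 4) → ℤ // ip u u = 2} := ⟨mk (1, 1, 0, 0), (dom_mk (by decide)).1⟩

theorem even_B {n : ℕ} (hn : 4 ≤ n) {W : Type u} [Group W] [Finite W] (cs : CoxeterSystem (CoxeterMatrix.B n) W) :
    Even (Nat.card (DoubleCoset.Quotient (WJ cs {i | (i : ℕ) ≠ 1} : Set W) (WJ cs {i | (i : ℕ) ≠ 1} : Set W))) := by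
  obtain ⟨m, rfl⟩ : ∃ m, n = m + 4 := ⟨n - 4, by omega⟩
  have hy0 : phV (m + 4) (y0 m).1 = c1 (m + 4) := by
    funext j
    have hj := j.2
    unfold phV
    rw [ip_btC]
    unfold TypeC.Cf y0 mk c1
    simp only
    split_ifs <;> first | omega | simp_all
  obtain ⟨-, h2⟩ := count cs (TypeC.isCartan (m + 4)) (c := c1 (m + 4)) (by
    intro i
    unfold c1
    split_ifs <;> norm_num) (fun y : {u : Fin (m + 4) → ℤ // ip u u = 2} => phV (m + 4) y.1)
    (fun x y h => Subtype.ext (phV_injective (by omega) h)) (y0 m) hy0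
    (fun i y => ⟨reC i y.1, ip_reC i y.1 y.2⟩) (fun i y j => phV_reC i y.1 j) (fun y => rkV (m + 4) y.1) (by
      intro y hy
      by_contra hno
      push Not at hno
      have hpos : ∀ i, 0 ≤ TypeC.Cf i y.1 := by
        intro i
        by_contra hi
        have h3 := hno i
        refine absurd (rkV_lt (ip_reC i y.1 y.2) ?_) (not_lt.2 h3)
        have h4 := ip_wg_btC i
        unfold reC
        rw [ip_comm (wg (m + 4)) (y.1 - _), ip_sub, ip_smul, ip_comm (TypeC.bt i), ip_comm (wg (m + 4)) y.1]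
        nlinarith
      have hdom := (dom_iffC y.1 y.2).1 (fun i _ => phV_nonneg.2 (hpos i))
      have h3 := dom_cases y.2 hdom
      have h4 : y.1 i2 ≤ y.1 i1 := by
        have h5 := hpos i1
        unfold TypeC.Cf at h5
        rw [dif_pos (by simp [i1])] at h5
        exact sub_nonneg.1 h5
      have h5 : ∀ q ∈ six, q.2.2.1 ≤ q.2.1 → q = (1, 1, 0, 0) := by decide
      apply hy
      apply Subtype.ext
      rw [eq_mk y.2 hdom, h5 _ h3 h4]
      rfl)
  have h3 := h2 {i | (i : ℕ) ≠ 1}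
  rw [c1_eq_zero] at h3
  rw [h3, card_dom _ (fun u => dom_iffC u.1 u.2)]
  decide

/-! ### Type `D` -/

section TD

variable {n : ℕ}

/-- the reflections -/
def reD (i : Fin (n + 2)) (u : Fin (n + 2) → ℤ) : Fin (n + 2) → ℤ := u - TypeD.Cf i u • TypeD.bt i

theorem ip_reD (i : Fin (n + 2)) (u : Fin (n + 2) → ℤ) (h : ip u u = 2) : ip (reD i u) (reD i u) = 2 := by
  unfold reD
  rw [ip_neg_smul, h, ip_btD u i, ip_btD (TypeD.bt i) i]
  have h1 : TypeD.Cf i (TypeD.bt i) = 2 := (TypeD.isCartan n).diag i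
  rw [h1]
  ring

/-- the functional of a vector -/
def phW (n : ℕ) (u : Fin (n + 2) → ℤ) (j : Fin (n + 2)) : ℤ := ip u (TypeD.bt j)

theorem phW_reD (i : Fin (n + 2)) (u : Fin (n + 2) → ℤ) (j : Fin (n + 2)) :
    phW n (reD i u) j = phW n u j - TypeD.A n i j * phW n u i := by
  unfold phW reD
  rw [ip_sub, ip_smul, TypeD.A, ip_comm (TypeD.bt i), ip_btD (TypeD.bt j) i, ip_btD u i]
  ring

theorem phW_eq {u : Fin (n + 2) → ℤ} {j : Fin (n + 2)} : phW n u j = TypeD.Cf j u := ip_btD u j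

theorem phW_injective : Function.Injective (phW n) := by
  intro x y h
  have h1 : ∀ i : Fin (n + 2), TypeD.Cf i x = TypeD.Cf i y := by
    intro i
    rw [← phW_eq, ← phW_eq, h]
  have h2 : ∀ d : ℕ, ∀ k : Fin (n + 2), (k : ℕ) + d = n + 1 →
      x k - y k = x (Fin.last (n + 1)) - y (Fin.last (n + 1)) := by
    intro d
    induction d with
    | zero =>
      intro k hk
      have : k = Fin.last (n + 1) := Fin.ext (by simpa using hk)
      rw [this]
    | succ d ih =>
      intro k hk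
      have h3 : (k : ℕ) + 1 < n + 2 := by omega
      have h4 := h1 k
      unfold TypeD.Cf at h4
      rw [dif_pos h3, dif_pos h3] at h4
      have h5 := ih ⟨k + 1, h3⟩ (by simp only; omega)
      linarith
  have h3 : x (Fin.last (n + 1)) - y (Fin.last (n + 1)) = 0 := by
    have h4 := h1 (Fin.last (n + 1))
    unfold TypeD.Cf at h4
    have h5 : ¬ ((Fin.last (n + 1) : Fin (n + 2)) : ℕ) + 1 < n + 2 := by simp
    rw [dif_neg h5, dif_neg h5] at h4
    have h6 := h2 1 (TypeD.pd n) rfl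
    linarith
  funext k
  have h4 := h2 (n + 1 - k) k (by have := k.2; omega)
  rw [h3] at h4
  linarith

theorem ip_wg_btD (i : Fin (n + 2)) : 0 < ip (wg (n + 2)) (TypeD.bt i) := by
  rw [ip_btD]
  have := i.2
  unfold TypeD.Cf wg TypeD.pd
  split_ifs
  · simp only
    push_cast
    omega
  · push_cast
    omega

end TD

theorem dom_iffD {m : ℕ} (u : Fin (m + 1 + 4) → ℤ) (h2 : ip u u = 2) :
    (∀ i ∈ {i : Fin (m + 3 + 2) | (i : ℕ) ≠ 1}, 0 ≤ phW (m + 3) u i) ↔ Dom u := by
  simp only [Set.mem_ofPred_eq, phW_eq]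
  constructor
  · intro h
    have hl := chain_le (n := m + 5) (u := u) (a := 2) (b := m + 4) (fun i hi h1 _ => by
      have h3 := h ⟨i, by omega⟩ (by simp only; omega)
      unfold TypeD.Cf at h3
      rw [dif_pos hi] at h3
      linarith)
    -- the last inequality
    have hlast : -u ⟨m + 4, by omega⟩ ≤ u ⟨m + 3, by omega⟩ := by
      have h3 := h ⟨m + 4, by omega⟩ (by simp only; omega)
      unfold TypeD.Cf at h3
      rw [dif_neg (by simp)] at h3
      have h4 : TypeD.pd (m + 3) = ⟨m + 3, by omega⟩ := rfl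
      rw [h4] at h3
      linarith
    have hle : ∀ (i j : ℕ) (hj : j < m + 5) (hij : i ≤ j), 2 ≤ i → u ⟨j, hj⟩ ≤ u ⟨i, by omega⟩ := by
      intro i j hj hij hi
      have h3 := hl (j - i) i (by omega) hi (by omega)
      have h4 : (⟨i + (j - i), by omega⟩ : Fin (m + 5)) = ⟨j, hj⟩ := Fin.ext (by simp only; omega)
      rwa [h4] at h3
    have habs : |u ⟨m + 4, by omega⟩| ≤ u ⟨m + 3, by omega⟩ := by
      rw [abs_le]
      constructor
      · linarith
      · exact hle (m + 3) (m + 4) (by omega) (by omega) (by omega)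
    have h0 : 0 ≤ u ⟨m + 3, by omega⟩ := (abs_nonneg _).trans habs
    refine ⟨?_, ?_, ?_, ?_⟩
    · have h3 := h i0 (by simp [i0])
      unfold TypeD.Cf at h3
      rw [dif_pos (by simp [i0])] at h3
      have h4 : (⟨((i0 : Fin (m + 1 + 4)) : ℕ) + 1, by simp [i0]⟩ : Fin (m + 5)) = i1 := rfl
      rw [h4] at h3
      linarith
    · exact hle 2 3 (by omega) (by omega) le_rfl
    · exact h0.trans (hle 3 (m + 3) (by omega) (by omega) (by omega))
    · intro k
      have hk := k.2
      by_cases hkm : (k : ℕ) = m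
      · have e : (it k : Fin (m + 1 + 4)) = ⟨m + 4, by omega⟩ := Fin.ext (by simp [it]; omega)
        rw [e]
        exact habs.trans (hle 3 (m + 3) (by omega) (by omega) (by omega))
      · have e : (it k : Fin (m + 1 + 4)) = ⟨(k : ℕ) + 4, by omega⟩ := rfl
        have h3 : 0 ≤ u (it k) := by
          rw [e]
          exact h0.trans (hle (k + 4) (m + 3) (by omega) (by omega) (by omega))
        rw [abs_of_nonneg h3, e]
        exact hle 3 (k + 4) (by omega) (by omega) (by omega)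
  · intro h i hi
    have hz := zero_tail h2 h
    obtain ⟨h3, h4, h5, -⟩ := h
    have hi' := i.2
    have hz' : ∀ k : Fin (m + 1 + 4), 4 ≤ (k : ℕ) → u k = 0 := by
      intro k hk
      have hk' := k.2
      have e : k = it ⟨k - 4, by omega⟩ := Fin.ext (by
        show (k : ℕ) = (k : ℕ) - 4 + 4
        omega)
      rw [e]
      exact hz _
    obtain ⟨k, hk⟩ := i
    simp only at hi hi'
    unfold TypeD.Cf
    simp only
    obtain _ | _ | _ | _ | k := k
    · rw [dif_pos (by omega)]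
      exact sub_nonneg.2 h3
    · exact absurd rfl hi
    · rw [dif_pos (by omega)]
      exact sub_nonneg.2 h4
    · rw [dif_pos (by omega)]
      have h7 := hz' ⟨0 + 1 + 1 + 1 + 1, by omega⟩ (by simp)
      rw [h7, sub_zero]
      exact h5
    · split_ifs with h6
      · have h7 := hz' ⟨k + 1 + 1 + 1 + 1 + 1, h6⟩ (by simp only; omega)
        have h8 := hz' ⟨k + 1 + 1 + 1 + 1, hk⟩ (by simp only; omega)
        rw [h7, h8, sub_zero]
      · have h8 := hz' ⟨k + 1 + 1 + 1 + 1, hk⟩ (by simp only; omega)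
        rw [h8, zero_add]
        by_cases hm : m = 0
        · subst hm
          exact h5
        · exact (hz' (TypeD.pd (m + 3)) (by simp [TypeD.pd]; omega)).ge

theorem even_D {n : ℕ} (hn : 3 ≤ n) {W : Type u} [Group W] [Finite W] (cs : CoxeterSystem (TypeD.M n) W) :
    Even (Nat.card (DoubleCoset.Quotient (WJ cs {i | (i : ℕ) ≠ 1} : Set W) (WJ cs {i | (i : ℕ) ≠ 1} : Set W))) := by
  obtain ⟨m, rfl⟩ : ∃ m, n = m + 3 := ⟨n - 3, by omega⟩
  have hy0 : phW (m + 3) (y0 (m + 1)).1 = c1 (m + 3 + 2) := by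
    funext j
    have hj := j.2
    rw [phW_eq]
    unfold TypeD.Cf y0 mk c1 TypeD.pd
    simp only
    split_ifs <;> first | omega | simp_all
  obtain ⟨-, h2⟩ := count cs (TypeD.isCartan (m + 3)) (c := c1 (m + 3 + 2)) (by
    intro i
    unfold c1
    split_ifs <;> norm_num) (fun y : {u : Fin (m + 1 + 4) → ℤ // ip u u = 2} => phW (m + 3) y.1)
    (fun x y h => Subtype.ext (phW_injective (n := m + 3) h)) (y0 (m + 1)) hy0
    (fun i y => ⟨reD i y.1, ip_reD i y.1 y.2⟩) (fun i y j => phW_reD i y.1 j) (fun y => rkV (m + 3 + 2) y.1) (by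
      intro y hy
      by_contra hno
      push Not at hno
      have hpos : ∀ i : Fin (m + 3 + 2), 0 ≤ TypeD.Cf i y.1 := by
        intro i
        by_contra hi
        have h3 := hno i
        refine absurd (rkV_lt (ip_reD i y.1 y.2) ?_) (not_lt.2 h3)
        have h4 := ip_wg_btD i
        unfold reD
        rw [ip_comm (wg (m + 3 + 2)) (y.1 - _), ip_sub, ip_smul, ip_comm (TypeD.bt i), ip_comm (wg (m + 3 + 2)) y.1]
        nlinarith
      have hdom := (dom_iffD y.1 y.2).1 (fun i _ => by rw [phW_eq]; exact hpos i)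
      have h3 := dom_cases y.2 hdom
      have h4 : y.1 i2 ≤ y.1 i1 := by
        have h5 := hpos (i1 : Fin (m + 1 + 4))
        unfold TypeD.Cf at h5
        rw [dif_pos (by simp [i1])] at h5
        exact sub_nonneg.1 h5
      have h5 : ∀ q ∈ six, q.2.2.1 ≤ q.2.1 → q = (1, 1, 0, 0) := by decide
      apply hy
      apply Subtype.ext
      rw [eq_mk y.2 hdom, h5 _ h3 h4]
      rfl)
  have h3 := h2 {i | (i : ℕ) ≠ 1}
  rw [c1_eq_zero] at h3
  rw [h3, card_dom _ (fun u => dom_iffD u.1 u.2)]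
  decide

end Cfsg.Agent.H839.EB
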