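import Cfsg.Agent.H694.CoxBD
import Cfsg.Agent.H694.CoxExc

/-!
# Team EB, [U4]: parity of the number of double cosets (helper839)

`even_B3`, `even_B`, `even_D`, `even_D4`: the numbers are 4, 6, 6, 52.
-/

set_option autoImplicit false
set_option maxRecDepth 100000

namespace Cfsg.Agent.H839.EB

open Cfsg.Agent.ChevalleyStructure.CoxeterGeom Cfsg.Agent.Tits.Core Cfsg.Agent.Tits.OppRes
open Cfsg.Agent.Nodes Cfsg.Agent.H694

universe u

/-! ### `B_3` -/

/-- the orbit, encoded -/
def LB3 : List ℕ := [
  1928, 1929, 1943, 1944, 2424, 2425, 2439, 2440]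

/-- the Cartan matrix -/
def AB3 (i j : ℕ) : ℤ := (([[2, -1, 0], [-1, 2, -2], [0, -1, 2]] : List (List ℤ)).getD i []).getD j 0

/-- the codes of its rows -/
def aB3 (i : ℕ) : ℤ := ([-14, -481, 496] : List ℤ).getD i 0

theorem cartan_B3 : ∀ i j : Fin 3, TypeC.A 3 i j = AB3 i j := by decide +kernel

theorem even_B3 {W : Type u} [Group W] [Finite W] (cs : CoxeterSystem (CoxeterMatrix.B 3) W) :
    Even (Nat.card (DoubleCoset.Quotient (WJ cs {i | (i : ℕ) ≠ 2} : Set W) (WJ cs {i | (i : ℕ) ≠ 2} : Set W))) := by
  have h := parity_list (TypeC.isCartan 3) LB3 2440 (fun i => aB3 i) [3, 5, 3]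
    (by decide +kernel) (by decide +kernel) (by decide +kernel) (by
      intro n hn i j
      rw [cartan_B3]
      revert n
      revert i j
      decide +kernel) (by decide +kernel) (by decide +kernel) (by decide +kernel) cs
  have hs : {i : Fin 3 | (i : ℕ) ≠ 2} = {i : Fin 3 | dc 2440 i = 0} := by
    ext i
    revert i
    decide +kernel
  rw [hs, h.2]
  decide +kernel

/-! ### `D_4` -/

/-- the orbit, encoded -/
def LD4 : List ℕ := [
  22425, 22439, 22441, 22455, 22921, 22935, 22937, 22951, 26264, 26266, 26294, 26296, 26746,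
  26774, 26778, 26806, 27256, 27258, 27286, 27288, 30105, 30119, 30121, 30135, 30585, 30587,
  30599, 30603, 30629, 30633, 30645, 30647, 31081, 31083, 31095, 31099, 31125, 31129, 31141,
  31143, 31593, 31607, 31609, 31623, 34426, 34454, 34458, 34486, 35418, 35446, 35450, 35478,
  38281, 38295, 38297, 38311, 38761, 38763, 38775, 38779, 38805, 38809, 38821, 38823, 39257,
  39259, 39271, 39275, 39301, 39305, 39317, 39319, 39769, 39783, 39785, 39799, 42616, 42618,
  42646, 42648, 43098, 43126, 43130, 43158, 43608, 43610, 43638, 43640, 46953, 46967, 46969,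
  46983, 47449, 47463, 47465, 47479]

theorem even_D4 {W : Type u} [Group W] [Finite W] (cs : CoxeterSystem (TypeD.M 2) W) :
    Even (Nat.card (DoubleCoset.Quotient (WJ cs {i | (i : ℕ) = 1} : Set W) (WJ cs {i | (i : ℕ) = 1} : Set W))) := by
  have h := parity_list (TypeD.isCartan 2) LD4 39305 (fun i => aD4 i) [6, 10, 6, 6]
    (by decide +kernel) (by decide +kernel) (by decide +kernel) (by
      intro n hn i j
      rw [cartan_D4]
      revert n
      revert i j
      decide +kernel) (by decide +kernel) (by decide +kernel) (by decide +kernel) cs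
  have hs : {i : Fin 4 | (i : ℕ) = 1} = {i : Fin 4 | dc 39305 i = 0} := by
    ext i
    revert i
    decide +kernel
  rw [hs, h.2]
  decide +kernel

end Cfsg.Agent.H839.EB
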